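import Groth.Agent.H7Lim.NormalizationNormal
import Groth.Agent.H06Unram.EtaleUnibranch
import Groth.Agent.H06EGA14.FiniteBaseChangeAlgebra
import Groth.Agent.H18Et.FEtNormal
import Groth.Prelude.Def_Pi1

/-!
# Normalization of a normal integral scheme in a finite extension of its function field
-/

set_option autoImplicit false
set_option linter.style.haveILetI false
set_option backward.isDefEq.respectTransparency false

noncomputable section

universe u

open CategoryTheory CategoryTheory.Limits AlgebraicGeometry

namespace Groth.Agent.H18PBC.NormEtale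

/-- A dominant morphism of integral schemes has injective stalk maps. -/
theorem stalkMap_injective {X Y : Scheme.{u}} [IsIntegral X] [IsIntegral Y] (f : X ⟶ Y) [IsDominant f] (x : X) :
    Function.Injective (f.stalkMap x) := by
  rw [injective_iff_map_eq_zero]
  intro a ha
  obtain ⟨U, hyU, a, rfl⟩ := Y.presheaf.exists_germ_eq a
  have hspec : genericPoint X ⤳ x := (genericPoint_spec X).specializes trivial
  have h1 := congrArg (X.presheaf.stalkSpecializes hspec) ha
  rw [map_zero, ← CommRingCat.comp_apply, ← Scheme.Hom.stalkSpecializes_stalkMap f _ x hspec,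
    CommRingCat.comp_apply, TopCat.Presheaf.germ_stalkSpecializes_apply] at h1
  have hgen : f (genericPoint X) = genericPoint Y := H7Lim.genericPoint_of_isDominant f
  have hfield : IsField (Y.presheaf.stalk (f (genericPoint X))) := by
    rw [hgen]; exact Field.toIsField Y.functionField
  letI := hfield.toField
  have h2 := ((f.stalkMap (genericPoint X)).hom.injective (h1.trans (map_zero _).symm))
  haveI : Nonempty U := ⟨⟨_, hyU⟩⟩
  rw [germ_injective_of_isIntegral Y (f (genericPoint X))
    ((hspec.map f.continuous).mem_open U.2 hyU) (h2.trans (map_zero _).symm), map_zero]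

/-- A formally unramified morphism locally of finite type and dominant between integral schemes with
normal target is étale. -/
theorem etale_of_unramified {X Y : Scheme.{u}} [IsIntegral X] [IsIntegral Y] (hY : Pi1.IsNormalScheme Y)
    (f : X ⟶ Y) [IsDominant f] [FormallyUnramified f] [LocallyOfFiniteType f] : Etale f := by
  have h : ∀ x : X, ∃ U : X.Opens, x ∈ U ∧ Etale (U.ι ≫ f) := fun x => by
    haveI := (hY (f x)).1
    haveI := (hY (f x)).2
    refine H06Unram.exists_etale_nhd_of_injective f ?_
      (H06EGA14.isGeomUnibranch_of_isIntegrallyClosed _) (stalkMap_injective f x)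
    exact Set.eq_univ_iff_forall.1 ((H06EGA9.formallyUnramified_iff_unramSet f).1 inferInstance) x
  choose U hxU hU using h
  exact (IsZariskiLocalAtSource.iff_of_iSup_eq_top (P := @Etale) U
    (eq_top_iff.2 fun x _ => TopologicalSpace.Opens.mem_iSup.2 ⟨x, hxU x⟩)).2 hU

section

variable {X : Scheme.{u}} [IsIntegral X] (L : Type u) [Field L] [Algebra X.functionField L]

/-- `Spec L ⟶ X`. -/
abbrev toX : Spec (CommRingCat.of L) ⟶ X :=
  Spec.map (CommRingCat.ofHom (algebraMap X.functionField L)) ≫ X.fromSpecStalk (genericPoint X)

theorem toX_apply (z : Spec (CommRingCat.of L)) : toX (X := X) L z = genericPoint X := by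
  haveI : IsField (X.presheaf.stalk (genericPoint X)) := Field.toIsField X.functionField
  show X.fromSpecStalk (genericPoint X) _ = _
  exact (congrArg _ (@Subsingleton.elim _ (inferInstanceAs (Subsingleton (PrimeSpectrum X.functionField))) _
    (IsLocalRing.closedPoint _))).trans Scheme.fromSpecStalk_closedPoint

instance isDominant_toX : IsDominant (toX (X := X) L) := by
  rw [isDominant_iff, DenseRange, dense_iff_closure_eq, ← Set.univ_subset_iff, ← (genericPoint_spec ↥X).def]
  exact closure_mono (Set.singleton_subset_iff.2 ⟨Classical.arbitrary _, toX_apply L _⟩)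

theorem isIntegrallyClosed_stalk_Spec_field (z : Spec (CommRingCat.of L)) :
    IsIntegrallyClosed ((Spec (CommRingCat.of L)).presheaf.stalk z) :=
  IsIntegrallyClosed.of_equiv
    (R := Localization.AtPrime (z : PrimeSpectrum L).asIdeal)
    (Spec.stalkIso (CommRingCat.of L) z).commRingCatIsoToRingEquiv.symm (h := isIntegrallyClosed_of_isLocalization _
      (z : PrimeSpectrum L).asIdeal.primeCompl (Ideal.primeCompl_le_nonZeroDivisors _))

variable [QuasiCompact (toX (X := X) L)] [QuasiSeparated (toX (X := X) L)]

instance isDominant_fromNormalization : IsDominant (toX (X := X) L).fromNormalization := by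
  haveI : IsDominant ((toX (X := X) L).toNormalization ≫ (toX (X := X) L).fromNormalization) := by
    rw [Scheme.Hom.toNormalization_fromNormalization]; infer_instance
  exact IsDominant.of_comp (toX (X := X) L).toNormalization _

theorem etale_isFinite_fromNormalization (hX : Pi1.IsNormalScheme X)
    [FormallyUnramified (toX (X := X) L).fromNormalization]
    [LocallyOfFiniteType (toX (X := X) L).fromNormalization] :
    Etale (toX (X := X) L).fromNormalization ∧ IsFinite (toX (X := X) L).fromNormalization :=
  ⟨etale_of_unramified hX _, (IsFinite.iff_isIntegralHom_and_locallyOfFiniteType _).mpr ⟨inferInstance, inferInstance⟩⟩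

variable [FiniteDimensional X.functionField L]

instance locallyQuasiFinite_toX : LocallyQuasiFinite (toX (X := X) L) := by
  haveI : IsFinite (Spec.map (CommRingCat.ofHom (algebraMap X.functionField L))) :=
    (IsFinite.SpecMap_iff _).2 (RingHom.finite_algebraMap.2 inferInstance)
  infer_instance

theorem isNormal_normalization (y : (toX (X := X) L).normalization) :
    IsIntegrallyClosed ((toX (X := X) L).normalization.presheaf.stalk y) :=
  H7Lim.isIntegrallyClosed_normalization_stalk (isIntegrallyClosed_stalk_Spec_field L) _ y

theorem isIso_stalkMap_toNormalization (z : Spec (CommRingCat.of L)) :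
    IsIso ((toX (X := X) L).toNormalization.stalkMap z) := by
  rw [show z = genericPoint (Spec (CommRingCat.of L)) from
    @Subsingleton.elim _ (inferInstanceAs (Subsingleton (PrimeSpectrum L))) _ _]
  exact H7Lim.isIso_stalkMap_toNormalization (isIntegrallyClosed_stalk_Spec_field L) _

/-- A finite étale cover with generic fibre `Spec L` is the normalization of `X` in `L`. -/
theorem etale_isFinite_of_cover (hX : Pi1.IsNormalScheme X) (Z : FEt.Cat X)
    (u : Spec (CommRingCat.of L) ⟶ pullback Z.hom (X.fromSpecStalk (genericPoint X))) [IsIso u]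
    (hu : u ≫ pullback.snd Z.hom (X.fromSpecStalk (genericPoint X)) =
      Spec.map (CommRingCat.ofHom (algebraMap X.functionField L))) :
    Etale (toX (X := X) L).fromNormalization ∧ IsFinite (toX (X := X) L).fromNormalization := by
  haveI : IsFinite Z.hom := Z.prop.1
  haveI : Etale Z.hom := Z.prop.2
  let gen := X.fromSpecStalk (genericPoint X)
  let p : pullback Z.hom gen ⟶ Z.left := pullback.fst Z.hom gen
  let w : Z.left := p (u (Classical.arbitrary _))
  have hfib : ∀ z : Z.left, Z.hom z = genericPoint X → z = w := fun z hz => by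
    have : z ∈ Set.range p := by
      rw [Scheme.Pullback.range_fst]
      exact ⟨IsLocalRing.closedPoint _, Scheme.fromSpecStalk_closedPoint.trans hz.symm⟩
    obtain ⟨q, rfl⟩ := this
    obtain ⟨a, rfl⟩ := u.surjective q
    exact congrArg (fun b => p (u b)) (@Subsingleton.elim _ (inferInstanceAs (Subsingleton (PrimeSpectrum L))) _ _)
  have hmax : ∀ z : Z.left, ∃ g, g ⤳ z ∧ Z.hom g = genericPoint X := fun z => by
    obtain ⟨g, hg, hg'⟩ := Flat.generalizingMap Z.hom
      (show genericPoint X ⤳ Z.hom z from (genericPoint_spec X).specializes trivial)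
    exact ⟨g, hg, hg'⟩
  haveI : ConnectedSpace Z.left := by
    rw [connectedSpace_iff_clopen]
    refine ⟨⟨w⟩, fun s hs => ?_⟩
    by_cases hw : w ∈ s
    · refine Or.inr (Set.eq_univ_of_forall fun z => ?_)
      obtain ⟨g, hg, hg'⟩ := hmax z
      exact hg.mem_closed hs.1 (hfib g hg' ▸ hw)
    · refine Or.inl (Set.eq_empty_of_forall_notMem fun z hz => hw ?_)
      obtain ⟨g, hg, hg'⟩ := hmax z
      exact hfib g hg' ▸ hg.mem_open hs.2 hz
  obtain ⟨hint, hN⟩ := H18Et.FEtNormal.isIntegral_and_isNormalScheme hX Z
  haveI := hint
  haveI : IsIntegral ((𝟭 Scheme.{u}).obj Z.left) := hint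
  haveI : IsIntegral ((Functor.fromPUnit.{0} X).obj Z.right) := ‹IsIntegral X›
  let s : Spec (CommRingCat.of L) ⟶ Z.left := u ≫ p
  have hs : toX (X := X) L = s ≫ Z.hom := by
    show Spec.map _ ≫ gen = (u ≫ p) ≫ Z.hom
    rw [Category.assoc, pullback.condition, reassoc_of% hu]
  have hgenZ : genericPoint Z.left = w := by
    refine hfib _ ?_
    haveI : IsDominant Z.hom := by
      refine ⟨?_⟩
      rw [DenseRange, dense_iff_closure_eq, ← Set.univ_subset_iff, ← (genericPoint_spec ↥X).def]
      exact closure_mono (Set.singleton_subset_iff.2 ⟨(hmax w).choose, (hmax w).choose_spec.2⟩)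
    exact H7Lim.genericPoint_of_isDominant Z.hom
  let d := (toX (X := X) L).normalizationDesc s Z.hom hs
  have hd : (toX (X := X) L).toNormalization ≫ d = s := Scheme.Hom.toNormalization_normalizationDesc _ _ _ _
  let a : Spec (CommRingCat.of L) := genericPoint _
  have hda : d (genericPoint (toX (X := X) L).normalization) = genericPoint Z.left := by
    rw [← H7Lim.genericPoint_toNormalization (toX (X := X) L), ← Scheme.Hom.comp_apply, hd, hgenZ]
    exact congrArg (fun b => p (u b)) (@Subsingleton.elim _ (inferInstanceAs (Subsingleton (PrimeSpectrum L))) _ _)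
  haveI : IsIso (d.stalkMap (genericPoint (toX (X := X) L).normalization)) := by
    rw [← H7Lim.genericPoint_toNormalization (toX (X := X) L)]
    haveI := isIso_stalkMap_toNormalization (X := X) L a
    refine H7Lim.isIso_stalkMap_of_comp (toX (X := X) L).toNormalization d a ?_
    rw [Scheme.Hom.stalkMap_congr_hom _ _ hd, ]
    suffices IsIso (s.stalkMap a) by infer_instance
    rw [ConcreteCategory.isIso_iff_bijective]
    refine ⟨?_, ?_⟩
    · haveI : IsDominant s := by
        refine ⟨?_⟩
        rw [DenseRange, dense_iff_closure_eq, ← Set.univ_subset_iff, ← (genericPoint_spec ↥Z.left).def, hgenZ]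
        exact closure_mono (Set.singleton_subset_iff.2 ⟨_, rfl⟩)
      exact stalkMap_injective s a
    · show Function.Surjective ((u ≫ p).stalkMap a)
      rw [Scheme.Hom.stalkMap_comp]
      haveI : IsPreimmersion p := MorphismProperty.pullback_fst _ _ (inferInstanceAs (IsPreimmersion gen))
      exact (ConcreteCategory.bijective_of_isIso (u.stalkMap a)).2.comp (p.stalkMap_surjective (u a))
  haveI : IsIso d := H7Lim.isIso_of_isIntegralHom_birational (fun z => (hN z).2) d hda
  rw [← Scheme.Hom.normalizationDesc_comp (toX (X := X) L) s Z.hom hs]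
  exact ⟨(MorphismProperty.cancel_left_of_respectsIso @Etale d Z.hom).2 inferInstance,
    (MorphismProperty.cancel_left_of_respectsIso @IsFinite d Z.hom).2 inferInstance⟩

/-- The generic fibre of the normalization is `Spec L` when it is finite. -/
theorem exists_generic_fibre_iso [IsFinite (toX (X := X) L).fromNormalization] :
    ∃ u : Spec (CommRingCat.of L) ⟶ pullback (toX (X := X) L).fromNormalization (X.fromSpecStalk (genericPoint X)),
      IsIso u ∧ u ≫ pullback.snd _ _ = Spec.map (CommRingCat.ofHom (algebraMap X.functionField L)) := by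
  let ν := (toX (X := X) L).fromNormalization
  let gen := X.fromSpecStalk (genericPoint X)
  let u : Spec (CommRingCat.of L) ⟶ pullback ν gen :=
    pullback.lift (toX (X := X) L).toNormalization (Spec.map (CommRingCat.ofHom (algebraMap X.functionField L)))
      (Scheme.Hom.toNormalization_fromNormalization _)
  refine ⟨u, ?_, pullback.lift_snd _ _ _⟩
  let p : pullback ν gen ⟶ (toX (X := X) L).normalization := pullback.fst ν gen
  haveI : IsPreimmersion p := MorphismProperty.pullback_fst _ _ (inferInstanceAs (IsPreimmersion gen))
  have hup : u ≫ p = (toX (X := X) L).toNormalization := pullback.lift_fst _ _ _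
  have hsub : Subsingleton ↥(pullback ν gen) := ⟨fun q q' => p.isEmbedding.injective (by
    have key : ∀ q : ↥(pullback ν gen), p q = genericPoint _ := fun q => by
      have h1 : ν (p q) = genericPoint X := by
        rw [← Scheme.Hom.comp_apply, pullback.condition, Scheme.Hom.comp_apply]
        exact (congrArg _ (@Subsingleton.elim _ (inferInstanceAs (Subsingleton (PrimeSpectrum X.functionField))) _
          (IsLocalRing.closedPoint _))).trans Scheme.fromSpecStalk_closedPoint
      have hspec : genericPoint (toX (X := X) L).normalization ⤳ p q := (genericPoint_spec _).specializes trivial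
      have hd : _root_.IsDiscrete (ν ⁻¹' {genericPoint X}) := ν.isDiscrete_preimage_singleton _
      have hmem : genericPoint (toX (X := X) L).normalization ∈ ν ⁻¹' {genericPoint X} :=
        H7Lim.genericPoint_of_isDominant ν
      haveI := hd.to_subtype
      have h2 : (⟨_, hmem⟩ : ν ⁻¹' {genericPoint X}) ⤳ ⟨p q, h1⟩ := (subtype_specializes_iff _ _).2 hspec
      exact congrArg Subtype.val h2.eq.symm
    rw [key, key])⟩
  haveI := hsub
  rw [isIso_iff_isOpenImmersion_and_surjective, IsOpenImmersion.iff_isIso_stalkMap]
  refine ⟨⟨?_, fun a => ?_⟩, ⟨fun x => ⟨Classical.arbitrary _, Subsingleton.elim _ _⟩⟩⟩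
  · exact Topology.IsOpenEmbedding.of_continuous_injective_isOpenMap u.continuous
      (fun x y _ => @Subsingleton.elim _ (inferInstanceAs (Subsingleton (PrimeSpectrum L))) _ _)
      (fun _ _ => isOpen_discrete _)
  · rw [ConcreteCategory.isIso_iff_bijective]
    haveI := isIso_stalkMap_toNormalization (X := X) L a
    have hc : Function.Bijective ((u ≫ p).stalkMap a) := by
      haveI : IsIso ((u ≫ p).stalkMap a) := by
        rw [Scheme.Hom.stalkMap_congr_hom _ _ hup]; infer_instance
      exact ConcreteCategory.bijective_of_isIso _
    rw [Scheme.Hom.stalkMap_comp] at hc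
    have hs := p.stalkMap_surjective (u a)
    refine ⟨fun x y hxy => ?_, fun z => ?_⟩
    · obtain ⟨x, rfl⟩ := hs x
      obtain ⟨y, rfl⟩ := hs y
      rw [hc.1 hxy]
    · obtain ⟨x, hx⟩ := hc.2 z
      exact ⟨p.stalkMap (u a) x, hx⟩

end

end Groth.Agent.H18PBC.NormEtale
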