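import Groth.Agent.H18PBC.NormEtale.Basic
import Groth.Agent.H06Unram.SepDegreeNormal
import Groth.Agent.H22Alg.CycBasic
import Groth.Agent.H3Cyc.Gysin

/-!
# Finite étaleness of the normalization near a point with maximally many geometric points
-/

set_option autoImplicit false
set_option linter.style.haveILetI false
set_option backward.isDefEq.respectTransparency false

noncomputable section

universe u

open CategoryTheory CategoryTheory.Limits AlgebraicGeometry TopologicalSpace

namespace Groth.Agent.H18PBC.NormEtale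

theorem bijective_toResidueField (K : Type u) [Field K] (z : Spec (CommRingCat.of K)) :
    Function.Bijective ⇑(CommRingCat.ofHom (algebraMap K (z : PrimeSpectrum K).asIdeal.ResidueField) ≫
      (Scheme.Spec.residueFieldIso (CommRingCat.of K) z).inv).hom := by
  refine ⟨RingHom.injective _, ?_⟩
  haveI : (z : PrimeSpectrum K).asIdeal.IsMaximal := by
    rw [(Ideal.eq_bot_or_top (z : PrimeSpectrum K).asIdeal).resolve_right (z : PrimeSpectrum K).isPrime.ne_top]
    exact Ideal.bot_isMaximal
  have h : Function.Surjective (algebraMap K (z : PrimeSpectrum K).asIdeal.ResidueField) := by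
    rw [IsScalarTower.algebraMap_eq K (K ⧸ (z : PrimeSpectrum K).asIdeal)]
    exact (Ideal.bijective_algebraMap_quotient_residueField _).2.comp Ideal.Quotient.mk_surjective
  exact (ConcreteCategory.bijective_of_isIso (Scheme.Spec.residueFieldIso (CommRingCat.of K) z).inv).2.comp h

theorem residueDegree_SpecField (K L : Type u) [Field K] [Field L] [Algebra K L] (z : Spec (CommRingCat.of L)) :
    (Spec.map (CommRingCat.ofHom (algebraMap K L))).residueDegree z = Module.finrank K L := by
  let g := Spec.map (CommRingCat.ofHom (algebraMap K L))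
  unfold Scheme.Hom.residueDegree
  letI := (g.residueFieldMap z).hom.toAlgebra
  refine (Algebra.finrank_eq_of_equiv_equiv
    (RingEquiv.ofBijective _ (bijective_toResidueField K (g z)))
    (RingEquiv.ofBijective _ (bijective_toResidueField L z)) ?_).symm
  have key : (CommRingCat.ofHom (algebraMap K ((g z : PrimeSpectrum K)).asIdeal.ResidueField) ≫
        (Scheme.Spec.residueFieldIso (CommRingCat.of K) (g z)).inv) ≫ g.residueFieldMap z =
      CommRingCat.ofHom (algebraMap K L) ≫ CommRingCat.ofHom (algebraMap L ((z : PrimeSpectrum L)).asIdeal.ResidueField) ≫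
        (Scheme.Spec.residueFieldIso (CommRingCat.of L) z).inv := by
    refine (congrArg (· ≫ g.residueFieldMap z) (Scheme.Spec.algebraMap_residueFieldIso_inv (CommRingCat.of K) (g z))).trans ?_
    refine Eq.trans ?_ (congrArg (CommRingCat.ofHom (algebraMap K L) ≫ ·) (Scheme.Spec.algebraMap_residueFieldIso_inv (CommRingCat.of L) z).symm)
    refine (Category.assoc _ _ _).trans ((congrArg (_ ≫ ·) (Scheme.Γevaluation_naturality g z)).trans ?_)
    rw [← Category.assoc, ← Category.assoc]
    exact congrArg (· ≫ _) (Scheme.ΓSpecIso_inv_naturality (CommRingCat.ofHom (algebraMap K L))).symm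
  ext a
  exact ConcreteCategory.congr_hom key a

theorem surjective_stalkMap_of_residueDegree_eq_one {L : Type u} [Field L] {Z : Scheme.{u}}
    (t : Spec (CommRingCat.of L) ⟶ Z) (z : Spec (CommRingCat.of L)) (h : t.residueDegree z = 1) :
    Function.Surjective (t.stalkMap z) := by
  letI := (t.residueFieldMap z).hom.toAlgebra
  have hs : Function.Surjective (t.residueFieldMap z) := fun w =>
    Algebra.mem_bot.1 ((Subalgebra.bot_eq_top_of_finrank_eq_one h).symm ▸ Algebra.mem_top (x := w))
  intro a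
  obtain ⟨b, hb⟩ := hs ((Spec (CommRingCat.of L)).residue z a)
  obtain ⟨c, rfl⟩ := Z.residue_surjective (t z) b
  refine ⟨c, ?_⟩
  have hfield : IsField ((Spec (CommRingCat.of L)).presheaf.stalk z) := by
    rw [show z = genericPoint (Spec (CommRingCat.of L)) from
      @Subsingleton.elim _ (inferInstanceAs (Subsingleton (PrimeSpectrum L))) _ _]
    exact Field.toIsField (Spec (CommRingCat.of L)).functionField
  letI := hfield.toField
  have he := ConcreteCategory.congr_hom (Scheme.residue_residueFieldMap t z) c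
  exact ((Spec (CommRingCat.of L)).residue z).hom.injective (he.symm.trans hb)

variable {X : Scheme.{u}} [IsIntegral X] (L : Type u) [Field L] [Algebra X.functionField L]
  [FiniteDimensional X.functionField L]
  [QuasiCompact (toX (X := X) L)] [QuasiSeparated (toX (X := X) L)]

/-- The normalization is finite étale near a point with at least `[L : K]` geometric points over it. -/
theorem exists_finite_etale_nhd (hX : Pi1.IsNormalScheme X) (Ω : Type u) [Field Ω] [IsAlgClosed Ω]
    (ξ : Spec (CommRingCat.of Ω) ⟶ X)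
    (e : Fin (Module.finrank X.functionField L) ↪
      {η : Spec (CommRingCat.of Ω) ⟶ (toX (X := X) L).normalization // η ≫ (toX (X := X) L).fromNormalization = ξ}) :
    ∃ U : X.Opens, Set.range ξ.base ⊆ (U : Set X) ∧
      Etale (pullback.snd (toX (X := X) L).fromNormalization U.ι) ∧
      IsFinite (pullback.snd (toX (X := X) L).fromNormalization U.ι) := by
  classical
  let ν := (toX (X := X) L).fromNormalization
  let o : Spec (CommRingCat.of Ω) := IsLocalRing.closedPoint Ω
  have ho : ∀ a : Spec (CommRingCat.of Ω), a = o := fun a =>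
    @Subsingleton.elim _ (inferInstanceAs (Subsingleton (PrimeSpectrum Ω))) _ _
  obtain ⟨W, hW, hxW, -⟩ := exists_isAffineOpen_mem_and_subset (U := (⊤ : X.Opens)) (x := ξ o) trivial
  haveI : Nonempty W := ⟨⟨_, hxW⟩⟩
  have hV : IsAffineOpen (ν ⁻¹ᵁ W) := hW.preimage ν
  have hηW : genericPoint X ∈ W := (genericPoint_specializes (ξ o)).mem_open W.2 hxW
  haveI : Nonempty ↥(ν ⁻¹ᵁ W) := ⟨⟨genericPoint _, show ν (genericPoint _) ∈ W by
    rw [H7Lim.genericPoint_of_isDominant ν]; exact hηW⟩⟩
  let φ : Γ(X, W) ⟶ Γ((toX (X := X) L).normalization, ν ⁻¹ᵁ W) := ν.app W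
  have hsq : Spec.map φ ≫ hW.fromSpec = hV.fromSpec ≫ ν := by
    rw [show φ = ν.appLE W (ν ⁻¹ᵁ W) le_rfl from Scheme.Hom.app_eq_appLE ν]
    exact IsAffineOpen.SpecMap_appLE_fromSpec ν hW hV le_rfl
  haveI : IsIntegral (Spec Γ(X, W)) := isIntegral_of_isOpenImmersion hW.fromSpec
  haveI : IsIntegral (Spec Γ((toX (X := X) L).normalization, ν ⁻¹ᵁ W)) := isIntegral_of_isOpenImmersion hV.fromSpec
  -- the points
  have hrξ : Set.range ξ ⊆ Set.range hW.fromSpec := by
    rintro _ ⟨a, rfl⟩
    rw [hW.range_fromSpec, ho a]; exact hxW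
  let ζ := IsOpenImmersion.lift hW.fromSpec ξ hrξ
  have hζ : ζ ≫ hW.fromSpec = ξ := IsOpenImmersion.lift_fac _ _ _
  have hre : ∀ i, Set.range (e i).1 ⊆ Set.range hV.fromSpec := fun i => by
    rintro _ ⟨a, rfl⟩
    rw [hV.range_fromSpec, ho a]
    show ν ((e i).1 o) ∈ W
    rw [← Scheme.Hom.comp_apply, (e i).2]
    exact hxW
  let y : Fin (Module.finrank X.functionField L) → (Spec (CommRingCat.of Ω) ⟶ Spec Γ((toX (X := X) L).normalization, ν ⁻¹ᵁ W)) :=
    fun i => IsOpenImmersion.lift hV.fromSpec (e i).1 (hre i)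
  have hyinj : Function.Injective y := fun i j h => e.injective (Subtype.ext (by
    rw [← IsOpenImmersion.lift_fac hV.fromSpec (e i).1 (hre i), ← IsOpenImmersion.lift_fac hV.fromSpec (e j).1 (hre j)]
    exact congrArg (· ≫ hV.fromSpec) h))
  have hyζ : ∀ i, y i ≫ Spec.map φ = ζ := fun i => by
    rw [← cancel_mono hW.fromSpec, Category.assoc, hsq, hζ, ← Category.assoc,
      IsOpenImmersion.lift_fac, (e i).2]
  -- a finite subalgebra separating them
  let A := Γ(X, W)
  let B := Γ((toX (X := X) L).normalization, ν ⁻¹ᵁ W)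
  letI : Algebra A B := φ.hom.toAlgebra
  haveI : Algebra.IsIntegral A B := ⟨IsIntegralHom.isIntegral_app ν W hW⟩
  have hsep : ∀ p : Fin (Module.finrank X.functionField L) × Fin (Module.finrank X.functionField L),
      ∃ b : B, p.1 ≠ p.2 → (Spec.preimage (y p.1)).hom b ≠ (Spec.preimage (y p.2)).hom b := fun p => by
    by_cases hp : p.1 = p.2
    · exact ⟨0, fun h => (h hp).elim⟩
    · by_contra hc
      push Not at hc
      refine hp (hyinj (Spec.map_preimage (y p.1) ▸ Spec.map_preimage (y p.2) ▸ congrArg Spec.map ?_))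
      exact CommRingCat.hom_ext (RingHom.ext fun b => (hc b).2)
  choose b hb using hsep
  let S := Algebra.adjoin A (Set.range b)
  haveI : Module.Finite A S := Module.Finite.iff_fg.2
    (fg_adjoin_of_finite (Set.finite_range b) fun x _ => Algebra.IsIntegral.isIntegral x)
  let i₀ : CommRingCat.of A ⟶ CommRingCat.of S := CommRingCat.ofHom (algebraMap A S)
  let j₀ : CommRingCat.of S ⟶ CommRingCat.of B := CommRingCat.ofHom S.val.toRingHom
  have hij : i₀ ≫ j₀ = φ := rfl
  let f₀ : Spec (CommRingCat.of S) ⟶ Spec A := Spec.map i₀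
  let q : Spec B ⟶ Spec (CommRingCat.of S) := Spec.map j₀
  have hqf : q ≫ f₀ = Spec.map φ := by rw [← Spec.map_comp, hij]
  haveI : IsFinite f₀ := (IsFinite.SpecMap_iff _).2 (RingHom.finite_algebraMap.2 inferInstance)
  haveI : IsDomain B := affine_isIntegral_iff B |>.mp inferInstance
  haveI : IsDomain A := affine_isIntegral_iff A |>.mp inferInstance
  haveI : IsIntegral (Spec (CommRingCat.of S)) := affine_isIntegral_iff _ |>.mpr inferInstance
  haveI : IsIntegralHom (Spec.map φ) := IsIntegralHom.SpecMap_iff.2 (IsIntegralHom.isIntegral_app ν W hW)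
  haveI : IsIntegralHom (q ≫ f₀) := by rw [hqf]; infer_instance
  haveI : IsIntegralHom q := IsIntegralHom.of_comp q f₀
  -- the point `Spec L`
  have hrT : Set.range (toX (X := X) L).toNormalization ⊆ Set.range hV.fromSpec := by
    rintro _ ⟨a, rfl⟩
    rw [hV.range_fromSpec]
    show ν _ ∈ W
    rw [← Scheme.Hom.comp_apply, Scheme.Hom.toNormalization_fromNormalization, toX_apply]
    exact hηW
  let t' : Spec (CommRingCat.of L) ⟶ Spec B := IsOpenImmersion.lift hV.fromSpec _ hrT
  have ht' : t' ≫ hV.fromSpec = (toX (X := X) L).toNormalization := IsOpenImmersion.lift_fac _ _ _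
  let t := t' ≫ q
  let pt : Spec (CommRingCat.of L) := genericPoint _
  have htX : t ≫ f₀ ≫ hW.fromSpec = toX (X := X) L := by
    rw [Category.assoc, ← Category.assoc q, hqf, hsq, ← Category.assoc, ht',
      Scheme.Hom.toNormalization_fromNormalization]
  have hηA : hW.fromSpec (genericPoint (Spec A)) = genericPoint X := H7Lim.genericPoint_of_isOpenImmersion _
  have hf₀t : f₀ (t pt) = genericPoint (Spec A) := hW.fromSpec.isOpenEmbedding.injective (by
    rw [hηA]
    show (t ≫ f₀ ≫ hW.fromSpec) pt = _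
    rw [htX, toX_apply])
  haveI : IsDominant f₀ := by
    refine ⟨?_⟩
    rw [DenseRange, dense_iff_closure_eq, ← Set.univ_subset_iff, ← (genericPoint_spec ↥(Spec A)).def]
    exact closure_mono (Set.singleton_subset_iff.2 ⟨_, hf₀t⟩)
  have hfin : (f₀.base ⁻¹' {genericPoint (Spec A)}).Finite := f₀.finite_preimage_singleton _
  have hfib : ∀ z, f₀ z = genericPoint (Spec A) → z = genericPoint (Spec (CommRingCat.of S)) := fun z hz => by
    have hd : _root_.IsDiscrete (f₀ ⁻¹' {genericPoint (Spec A)}) := f₀.isDiscrete_preimage_singleton _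
    have hmem : genericPoint (Spec (CommRingCat.of S)) ∈ f₀ ⁻¹' {genericPoint (Spec A)} :=
      H7Lim.genericPoint_of_isDominant f₀
    haveI := hd.to_subtype
    have h2 : (⟨_, hmem⟩ : f₀ ⁻¹' {genericPoint (Spec A)}) ⤳ ⟨z, hz⟩ :=
      (subtype_specializes_iff _ _).2 ((genericPoint_spec _).specializes trivial)
    exact congrArg Subtype.val h2.eq.symm
  have hfinset : hfin.toFinset = {t pt} := by
    ext z
    rw [Set.Finite.mem_toFinset, Finset.mem_singleton]
    exact ⟨fun hz => (hfib z hz).trans (hfib _ hf₀t).symm, fun hz => hz ▸ hf₀t⟩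
  have hdeg : f₀.residueDegree (t pt) * t.residueDegree pt = Module.finrank X.functionField L := by
    have h1 := H22Alg.CycBasic.residueDegree_comp t (f₀ ≫ hW.fromSpec) pt
    rw [H22Alg.CycBasic.residueDegree_comp f₀ hW.fromSpec (t pt), H3Cyc.Gysin.residueDegree_immersion hW.fromSpec, one_mul, htX] at h1
    rw [← h1]
    show (Spec.map (CommRingCat.ofHom (algebraMap X.functionField L)) ≫ X.fromSpecStalk (genericPoint X)).residueDegree pt = _
    rw [H22Alg.CycBasic.residueDegree_comp, H3Cyc.Gysin.residueDegree_immersion (X.fromSpecStalk (genericPoint X)), one_mul, residueDegree_SpecField]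
  -- counting
  let P : Spec A := ζ o
  have hP : hW.fromSpec P = ξ o := by rw [← Scheme.Hom.comp_apply, hζ]
  have hnormA : ∀ p : Spec A, IsIntegrallyClosed ((Spec A).presheaf.stalk p) := fun p =>
    IsIntegrallyClosed.of_equiv (asIso (hW.fromSpec.stalkMap p)).commRingCatIsoToRingEquiv (h := (hX _).2)
  haveI := hnormA P
  have hfinP : (f₀.base ⁻¹' {P}).Finite := f₀.finite_preimage_singleton _
  have hT : ∀ x ∈ hfinP.toFinset, f₀ x = P ∧ f₀.QuasiFiniteAt x := fun x hx =>
    ⟨hfinP.mem_toFinset.1 hx, H06Unram.SepDegreeFibre.quasiFiniteAt_of_finite f₀ hfinP (hfinP.mem_toFinset.1 hx)⟩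
  have hSset : {x | f₀.base x = P ∧ f₀.QuasiFiniteAt x} = f₀.base ⁻¹' {P} :=
    Set.ext fun x => ⟨fun h => h.1, fun h => hT x (hfinP.mem_toFinset.2 h)⟩
  have hge : Module.finrank X.functionField L ≤ ∑ x ∈ hfinP.toFinset, EGA4loc.residueSepDegree f₀ x := by
    obtain ⟨hfinPts, hcard⟩ := H06Unram.SepDegreeNormal.card_pts f₀ (Ω := Ω) ζ hfinP
    haveI := hfinPts
    refine le_trans ?_ hcard.le
    let g : Fin (Module.finrank X.functionField L) → H7Weight.Pts f₀ ζ := fun i =>
      ⟨y i ≫ q, by rw [Category.assoc, hqf, hyζ]⟩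
    have hg : Function.Injective g := fun i j h => by
      by_contra hne
      refine hb (i, j) hne ?_
      have h1 : Spec.preimage (y i ≫ q) = Spec.preimage (y j ≫ q) := by rw [show y i ≫ q = y j ≫ q from congrArg Subtype.val h]
      simp only [q, Spec.preimage_comp, Spec.preimage_map] at h1
      exact ConcreteCategory.congr_hom h1 ⟨b (i, j), Algebra.subset_adjoin ⟨_, rfl⟩⟩
    simpa using Nat.card_le_card_of_injective g hg
  have hdom : ∀ Z ∈ irreducibleComponents ↥(Spec (CommRingCat.of S)), genericPoint (Spec A) ∈ f₀.base '' Z := by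
    intro Z hZ
    rw [irreducibleComponents_eq_singleton, Set.mem_singleton_iff] at hZ
    exact ⟨t pt, hZ ▸ trivial, hf₀t⟩
  have hgb := H06EGA14.isGeomUnibranch_of_isIntegrallyClosed ((Spec A).presheaf.stalk P)
  have hle : ∑ x ∈ hfinP.toFinset, EGA4loc.residueSepDegree f₀ x ≤ f₀.residueDegree (t pt) := by
    refine (H06Unram.SepDegreeFibre.sum_le f₀ hdom hfin hgb _ hT).trans ?_
    rw [hfinset, Finset.sum_singleton]
    exact H06Unram.SepDegreeFibre.residueSepDegree_le f₀
      (H06Unram.SepDegreeFibre.quasiFiniteAt_of_finite f₀ hfin hf₀t)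
  have hn : 0 < Module.finrank X.functionField L := Module.finrank_pos
  have ht1 : t.residueDegree pt = 1 := by
    have h := hge.trans hle
    rw [← hdeg] at h hn
    have h0 := Nat.pos_of_mul_pos_left hn
    have h0' := Nat.pos_of_mul_pos_right hn
    nlinarith
  have heq : (∑ᶠ x ∈ {x | f₀.base x = P ∧ f₀.QuasiFiniteAt x}, EGA4loc.residueSepDegree f₀ x) =
      ∑ x ∈ hfin.toFinset, EGA4loc.residueDegree f₀ x := by
    rw [hSset, finsum_mem_eq_finite_toFinset_sum _ hfinP, hfinset, Finset.sum_singleton]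
    refine le_antisymm hle ?_
    show f₀.residueDegree (t pt) ≤ _
    rw [ht1, mul_one] at hdeg
    exact hdeg.le.trans hge
  obtain ⟨U₀, hPU, hfU, heU⟩ := H06Unram.SepDegreeNormal.exists_finite_etale_of_sum_eq f₀ hdom hfin
    (hSset ▸ hfinP) heq
  -- over `U₀` the normalization is the model
  let O : (Spec (CommRingCat.of S)).Opens := f₀ ⁻¹ᵁ U₀
  have hηU : genericPoint (Spec A) ∈ U₀ := (genericPoint_specializes P).mem_open U₀.2 hPU
  have htO : t pt ∈ O := show f₀ (t pt) ∈ U₀ by rw [hf₀t]; exact hηU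
  haveI : Nonempty ↥O.toScheme := ⟨⟨t pt, htO⟩⟩
  haveI : Nonempty ↥U₀.toScheme := ⟨⟨_, hηU⟩⟩
  haveI : IsIntegral O.toScheme := isIntegral_of_isOpenImmersion O.ι
  haveI : IsIntegral U₀.toScheme := isIntegral_of_isOpenImmersion U₀.ι
  haveI : Nonempty ↥(q ⁻¹ᵁ O).toScheme := ⟨⟨t' pt, htO⟩⟩
  haveI : IsIntegral (q ⁻¹ᵁ O).toScheme := isIntegral_of_isOpenImmersion (q ⁻¹ᵁ O).ι
  have hU₀N : Pi1.IsNormalScheme U₀.toScheme := fun p => ⟨inferInstance, IsIntegrallyClosed.of_equiv
    (asIso (U₀.ι.stalkMap p)).commRingCatIsoToRingEquiv (h := hnormA _)⟩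
  haveI := heU
  have hON : Pi1.IsNormalScheme O.toScheme := H18Et.EtaleNormalScheme.isNormalScheme_of_etale (f₀ ∣_ U₀) hU₀N
  have hqt : q (t' pt) = t pt := rfl
  let a : ↥(q ⁻¹ᵁ O).toScheme := ⟨t' pt, htO⟩
  have ha : a = genericPoint _ := (q ⁻¹ᵁ O).ι.isOpenEmbedding.injective (by
    rw [H7Lim.genericPoint_of_isOpenImmersion (q ⁻¹ᵁ O).ι]
    show t' pt = _
    refine hV.fromSpec.isOpenEmbedding.injective ?_
    rw [← Scheme.Hom.comp_apply, ht', H7Lim.genericPoint_of_isOpenImmersion hV.fromSpec]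
    exact H7Lim.genericPoint_toNormalization _)
  have hgen : (q ∣_ O) (genericPoint _) = genericPoint O.toScheme := O.ι.isOpenEmbedding.injective (by
    rw [H7Lim.genericPoint_of_isOpenImmersion O.ι, ← ha, ← Scheme.Hom.comp_apply, morphismRestrict_ι,
      Scheme.Hom.comp_apply]
    exact hfib _ hf₀t)
  haveI : IsIso ((q ∣_ O).stalkMap (genericPoint _)) := by
    rw [← ha]
    have h1 : IsIso (t'.stalkMap pt) := by
      haveI := isIso_stalkMap_toNormalization (X := X) L pt
      have h : IsIso ((t' ≫ hV.fromSpec).stalkMap pt) := by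
        rw [Scheme.Hom.stalkMap_congr_hom _ _ ht']; infer_instance
      rw [Scheme.Hom.stalkMap_comp] at h
      exact IsIso.of_isIso_comp_left (hV.fromSpec.stalkMap (t' pt)) _
    have h2 : IsIso (t.stalkMap pt) := by
      rw [ConcreteCategory.isIso_iff_bijective]
      haveI : IsDominant t := by
        refine ⟨?_⟩
        rw [DenseRange, dense_iff_closure_eq, ← Set.univ_subset_iff, ← (genericPoint_spec ↥(Spec (CommRingCat.of S))).def]
        exact closure_mono (Set.singleton_subset_iff.2 ⟨pt, hfib _ hf₀t⟩)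
      exact ⟨stalkMap_injective t pt, surjective_stalkMap_of_residueDegree_eq_one t pt ht1⟩
    have h3 : IsIso (q.stalkMap (t' pt)) := H7Lim.isIso_stalkMap_of_comp t' q pt h2
    have h4 : IsIso (((q ⁻¹ᵁ O).ι ≫ q).stalkMap a) := by
      rw [Scheme.Hom.stalkMap_comp]
      haveI : IsIso (q.stalkMap ((q ⁻¹ᵁ O).ι a)) := h3
      infer_instance
    have h5 : IsIso (((q ∣_ O) ≫ O.ι).stalkMap a) := by
      rw [Scheme.Hom.stalkMap_congr_hom _ _ (morphismRestrict_ι q O)]
      infer_instance
    rw [Scheme.Hom.stalkMap_comp] at h5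
    exact IsIso.of_isIso_comp_left (O.ι.stalkMap ((q ∣_ O) a)) _
  haveI : IsIso (q ∣_ O) := H7Lim.isIso_of_isIntegralHom_birational (fun z => (hON z).2) (q ∣_ O) hgen
  have hres : IsFinite ((q ≫ f₀) ∣_ U₀) ∧ Etale ((q ≫ f₀) ∣_ U₀) := by
    rw [morphismRestrict_comp]
    exact ⟨(MorphismProperty.cancel_left_of_respectsIso @IsFinite _ _).2 hfU,
      (MorphismProperty.cancel_left_of_respectsIso @Etale _ _).2 heU⟩
  rw [hqf] at hres
  -- transport to `X`
  have hpb : IsPullback hV.fromSpec (Spec.map φ) ν hW.fromSpec := by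
    let u : Spec B ⟶ pullback ν hW.fromSpec := pullback.lift hV.fromSpec (Spec.map φ) hsq.symm
    haveI : IsOpenImmersion (u ≫ pullback.fst ν hW.fromSpec) := by rw [pullback.lift_fst]; infer_instance
    haveI : IsOpenImmersion u := IsOpenImmersion.of_comp u (pullback.fst ν hW.fromSpec)
    haveI : Surjective u := ⟨fun z => by
      have hz : pullback.fst ν hW.fromSpec z ∈ Set.range hV.fromSpec := by
        rw [hV.range_fromSpec]
        show ν _ ∈ W
        rw [← Scheme.Hom.comp_apply, pullback.condition, Scheme.Hom.comp_apply, ← SetLike.mem_coe, ← hW.range_fromSpec]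
        exact ⟨_, rfl⟩
      obtain ⟨v, hv⟩ := hz
      refine ⟨v, (pullback.fst ν hW.fromSpec).isOpenEmbedding.injective ?_⟩
      rw [← Scheme.Hom.comp_apply, pullback.lift_fst]
      exact hv⟩
    haveI : IsIso u := (isIso_iff_isOpenImmersion_and_surjective u).mpr ⟨inferInstance, inferInstance⟩
    exact IsPullback.of_iso_pullback ⟨hsq.symm⟩ (asIso u) (pullback.lift_fst _ _ _) (pullback.lift_snd _ _ _)
  let U : X.Opens := hW.fromSpec ''ᵁ U₀
  have hpb2 : IsPullback ((Spec.map φ ⁻¹ᵁ U₀).ι ≫ hV.fromSpec) (Spec.map φ ∣_ U₀ ≫ (hW.fromSpec.isoImage U₀).hom) ν U.ι := by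
    refine ((isPullback_morphismRestrict (Spec.map φ) U₀).flip.paste_horiz hpb).of_iso (Iso.refl _) (Iso.refl _)
      (hW.fromSpec.isoImage U₀) (Iso.refl _) ?_ ?_ ?_ ?_
    · simp
    · simp
    · simp
    · simp [U]
  refine ⟨U, fun x => ?_, ?_, ?_⟩
  · rintro ⟨z, rfl⟩
    rw [ho z]
    exact ⟨P, hPU, hP⟩
  · rw [← hpb2.isoPullback_inv_snd]
    exact (MorphismProperty.cancel_left_of_respectsIso @Etale _ _).2
      ((MorphismProperty.cancel_right_of_respectsIso @Etale _ _).2 hres.2)
  · rw [← hpb2.isoPullback_inv_snd]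
    exact (MorphismProperty.cancel_left_of_respectsIso @IsFinite _ _).2
      ((MorphismProperty.cancel_right_of_respectsIso @IsFinite _ _).2 hres.1)

end Groth.Agent.H18PBC.NormEtale
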